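import Mathlib
import Cfsg.Agent.Lib.Offender.Quot
import Cfsg.Agent.Lib.ClassSizes.TransvSq
import Cfsg.Agent.Lib.FStar.Hyperplane

/-! Abelian `2`-groups with a faithful action on an odd group: the offender bound on an `F₂`-module. -/

set_option autoImplicit false
set_option linter.unusedSectionVars false
set_option linter.unusedSimpArgs false
set_option linter.unusedVariables false
set_option linter.unnecessarySimpa false

namespace Cfsg.Agent.Lib.OffBound

open Subgroup Cfsg Cfsg.Agent.Lib.Offender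
open Cfsg.Agent.Lib.ClassSizes.TransvSq (IsTv centralizes_odd add_self')
open Cfsg.Agent.Lib.FStar (hyperGen le_hyperGen)

universe u

section omega

variable {G : Type*} [Group G]

/-- The involutions of an abelian subgroup, with `1`. -/
def om1 (A : Subgroup G) (hc : ∀ a ∈ A, ∀ b ∈ A, a * b = b * a) : Subgroup G where
  carrier := {a | a ∈ A ∧ a ^ 2 = 1}
  mul_mem' := by
    rintro a b ⟨ha, ha2⟩ ⟨hb, hb2⟩
    refine ⟨mul_mem ha hb, ?_⟩
    have h : Commute a b := hc a ha b hb
    rw [h.mul_pow, ha2, hb2, one_mul]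
  one_mem' := ⟨one_mem _, one_pow _⟩
  inv_mem' := by
    rintro a ⟨ha, ha2⟩
    exact ⟨inv_mem ha, by rw [inv_pow, ha2, inv_one]⟩

theorem om1_ea (A : Subgroup G) (hc : ∀ a ∈ A, ∀ b ∈ A, a * b = b * a) : IsElementaryAbelian 2 (om1 A hc) :=
  ⟨⟨⟨fun x y => Subtype.ext (hc _ x.2.1 _ y.2.1)⟩⟩, fun a ha => ha.2⟩

theorem exists_choice {A : Subgroup G} (hA2 : IsPGroup 2 A) (hA : A ≠ ⊥) :
    ∃ t ∈ A, t ≠ 1 ∧ t ^ 2 = 1 ∧ ((∃ a ∈ A, a ^ 2 ≠ 1) → ∃ c ∈ A, c ^ 2 = t) := by
  by_cases h : ∃ a ∈ A, a ^ 2 ≠ 1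
  · obtain ⟨a, ha, ha2⟩ := h
    obtain ⟨k, hk⟩ := hA2 ⟨a, ha⟩
    have hk' : a ^ (2 ^ k) = 1 := congrArg Subtype.val hk
    obtain ⟨m, -, hm⟩ := (Nat.dvd_prime_pow Nat.prime_two).mp (orderOf_dvd_of_pow_eq_one hk')
    have hm2 : 2 ≤ m := by
      by_contra hlt
      apply ha2
      have h1 : orderOf a ∣ 2 := by
        rw [hm]
        simpa using pow_dvd_pow 2 (by omega : m ≤ 1)
      exact orderOf_dvd_iff_pow_eq_one.mp h1
    obtain ⟨n, rfl⟩ : ∃ n, m = n + 2 := ⟨m - 2, by omega⟩
    have hcA : a ^ (2 ^ n) ∈ A := pow_mem ha _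
    refine ⟨a ^ (2 ^ (n + 1)), pow_mem ha _, ?_, ?_, fun _ => ⟨a ^ (2 ^ n), hcA, ?_⟩⟩
    · apply pow_ne_one_of_lt_orderOf (by positivity)
      rw [hm]
      exact Nat.pow_lt_pow_right (by norm_num) (by omega)
    · rw [← pow_mul, ← pow_succ, ← hm, pow_orderOf_eq_one]
    · rw [← pow_mul, pow_succ]
  · push_neg at h
    obtain ⟨t, ht1⟩ := (Subgroup.ne_bot_iff_exists_ne_one.mp hA)
    exact ⟨t, t.2, fun h1 => ht1 (Subtype.ext h1), h _ t.2, fun ⟨a, ha, ha2⟩ => absurd (h a ha) ha2⟩

theorem exists_hyper [Finite G] {A₁ O : Subgroup G} (hA : IsElementaryAbelian 2 A₁) (hO : ¬ 2 ∣ Nat.card O)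
    (hAO : ∀ a ∈ A₁, ∀ x ∈ O, a * x * a⁻¹ ∈ O) {t : G} (ht : t ∉ centralizer (O : Set G)) :
    ∃ D : Subgroup G, D ≤ A₁ ∧ D.relIndex A₁ ≤ 2 ∧
      t ∉ centralizer ((O ⊓ centralizer (D : Set G) : Subgroup G) : Set G) := by
  by_contra hcon
  push_neg at hcon
  have h1 := le_hyperGen (p := 2) hA hO hAO
  have h2 : hyperGen 2 A₁ O ≤ centralizer ({t} : Set G) := by
    apply iSup_le
    rintro ⟨D, hD1, hD2⟩ x hx
    rw [mem_centralizer_iff]
    rintro _ rfl
    have h3 := mem_centralizer_iff.mp (hcon D hD1 hD2) x hx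
    exact h3.symm
  apply ht
  rw [mem_centralizer_iff]
  intro x hx
  have h3 := mem_centralizer_iff.mp (h2 (h1 hx)) t rfl
  exact h3.symm

theorem exists_generator [Finite G] {A : Subgroup G} (hc : ∀ a ∈ A, ∀ b ∈ A, a * b = b * a) (hA2 : IsPGroup 2 A)
    (huniq : ∀ a ∈ A, ∀ b ∈ A, a ^ 2 = 1 → b ^ 2 = 1 → a ≠ 1 → b ≠ 1 → a = b) :
    ∃ a ∈ A, A = zpowers a := by
  obtain ⟨⟨a, ha⟩, hmax⟩ := Finite.exists_max (fun x : A => orderOf (x : G))
  simp only at hmax
  have hord : ∀ c ∈ A, ∃ m, orderOf c = 2 ^ m := by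
    intro c hc'
    obtain ⟨k, hk⟩ := hA2 ⟨c, hc'⟩
    obtain ⟨m, -, hm⟩ := (Nat.dvd_prime_pow Nat.prime_two).mp
      (orderOf_dvd_of_pow_eq_one (congrArg Subtype.val hk : c ^ (2 ^ k) = 1))
    exact ⟨m, hm⟩
  have hmax' : ∀ c ∈ A, orderOf c ≤ orderOf a := fun c hc' => hmax ⟨c, hc'⟩
  have hinv : a ≠ 1 → ∃ s ∈ zpowers a, s ∈ A ∧ s ^ 2 = 1 ∧ s ≠ 1 := by
    intro ha1
    obtain ⟨e, he⟩ := hord a ha
    cases e with
    | zero =>
      exact absurd (orderOf_eq_one_iff.mp (by simpa using he)) ha1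
    | succ e =>
      refine ⟨a ^ (2 ^ e), npow_mem_zpowers a _, pow_mem ha _, ?_, ?_⟩
      · rw [← pow_mul, ← pow_succ, ← he, pow_orderOf_eq_one]
      · apply pow_ne_one_of_lt_orderOf (by positivity)
        rw [he]
        exact Nat.pow_lt_pow_right (by norm_num) (by omega)
  have key : ∀ (k : ℕ) (c : G), c ∈ A → c ^ (2 ^ k) = 1 → c ∈ zpowers a := by
    intro k
    induction k with
    | zero =>
      intro c _ h
      rw [pow_zero, pow_one] at h
      rw [h]
      exact one_mem _
    | succ k ih =>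
      intro c hcA h
      have h2 : c ^ 2 ∈ zpowers a := ih (c ^ 2) (pow_mem hcA 2) (by
        rw [← pow_mul, ← pow_succ']
        exact h)
      obtain ⟨m, hm⟩ := h2
      have hm' : a ^ m = c ^ 2 := hm
      have hcomm : ∀ l : ℤ, Commute c (a ^ (-l)) := fun l => hc c hcA _ (zpow_mem ha _)
      by_cases ha1 : a = 1
      · have h3 : orderOf c ≤ 1 := by
          have := hmax' c hcA
          rwa [ha1, orderOf_one] at this
        have h4 : orderOf c = 1 := le_antisymm h3 (orderOf_pos_iff.mpr (isOfFinOrder_of_finite c))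
        rw [orderOf_eq_one_iff.mp h4]
        exact one_mem _
      rcases Int.even_or_odd' m with ⟨l, hl | hl⟩
      · -- even case
        set d := c * a ^ (-l) with hd
        have hdA : d ∈ A := mul_mem hcA (zpow_mem ha _)
        have hd2 : d ^ 2 = 1 := by
          rw [hd, (hcomm l).mul_pow, ← hm', hl]
          rw [← zpow_natCast (a ^ (-l)) 2, ← zpow_mul]
          rw [← zpow_add]
          have : (2 * l + (-l * ((2 : ℕ) : ℤ))) = 0 := by push_cast; ring
          rw [this, zpow_zero]
        have hc_eq : c = d * a ^ l := by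
          rw [hd, zpow_neg]
          group
        rw [hc_eq]
        refine mul_mem ?_ (zpow_mem (mem_zpowers a) l)
        by_cases hd1 : d = 1
        · rw [hd1]
          exact one_mem _
        · obtain ⟨s, hsz, hsA, hs2, hs1⟩ := hinv ha1
          rw [huniq d hdA s hsA hd2 hs2 hd1 hs1]
          exact hsz
      · -- odd case
        exfalso
        set d := c * a ^ (-l) with hd
        have hdA : d ∈ A := mul_mem hcA (zpow_mem ha _)
        have hd2 : d ^ 2 = a := by
          rw [hd, (hcomm l).mul_pow, ← hm', hl]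
          rw [← zpow_natCast (a ^ (-l)) 2, ← zpow_mul]
          rw [← zpow_add]
          have : (2 * l + 1 + (-l * ((2 : ℕ) : ℤ))) = 1 := by push_cast; ring
          rw [this, zpow_one]
        obtain ⟨f, hf⟩ := hord d hdA
        have h5 := hmax' d hdA
        have h6 := orderOf_pow' d (two_ne_zero : (2 : ℕ) ≠ 0)
        rw [hd2, hf] at h6
        cases f with
        | zero =>
          have hd1 : d = 1 := orderOf_eq_one_iff.mp (by simpa using hf)
          apply ha1
          rw [← hd2, hd1, one_pow]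
        | succ g =>
          have h7 : Nat.gcd (2 ^ (g + 1)) 2 = 2 := Nat.gcd_eq_right (dvd_pow_self 2 (by omega))
          rw [h7, pow_succ, Nat.mul_div_cancel _ (by norm_num : 0 < 2)] at h6
          rw [h6, hf, pow_succ] at h5
          have : 0 < 2 ^ g := by positivity
          omega
  obtain ⟨k, hk⟩ := hord a ha
  refine ⟨a, ha, le_antisymm ?_ ?_⟩
  · intro c hcA
    obtain ⟨m, hm⟩ := hord c hcA
    exact key m c hcA (by rw [← hm]; exact pow_orderOf_eq_one c)
  · rw [zpowers_le]
    exact ha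

end omega

section gl

variable {M : Type u} [AddCommGroup M] [Module (ZMod 2) M]

/-- The general linear group. -/
abbrev GLm (M : Type u) [AddCommGroup M] [Module (ZMod 2) M] := M ≃ₗ[ZMod 2] M

/-- The tautological representation. -/
def glr : GLm M →* Module.End (ZMod 2) M where
  toFun g := (g : M →ₗ[ZMod 2] M)
  map_one' := rfl
  map_mul' _ _ := rfl

@[simp] theorem glr_apply (g : GLm M) (v : M) : glr g v = g v := rfl

theorem glr_inj : Function.Injective (glr : GLm M →* Module.End (ZMod 2) M) :=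
  fun g h e => LinearEquiv.ext fun v => LinearMap.congr_fun e v

theorem finite_gl [Finite M] : Finite (GLm M) :=
  Finite.of_injective (fun g : GLm M => (g : M → M)) DFunLike.coe_injective

theorem inv_fix {g : GLm M} {v : M} (h : g v = v) : g⁻¹ v = v :=
  rho_eq_of_eq_inv (ρ := glr) (x := g) h

theorem mem_fx_zpowers {x : GLm M} {v : M} : v ∈ Fx glr (zpowers x) ↔ x v = v := by
  constructor
  · intro h
    exact h x (mem_zpowers x)
  · intro h
    let St : Subgroup (GLm M) :=
      { carrier := {g | g v = v}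
        mul_mem' := fun {a b} ha hb => by
          show a (b v) = v
          rw [show b v = v from hb]
          exact ha
        one_mem' := rfl
        inv_mem' := fun {a} ha => inv_fix ha }
    have h1 : zpowers x ≤ St := by
      rw [zpowers_le]
      exact h
    intro b hb
    exact h1 hb

theorem card_top' : Nat.card (⊤ : Submodule (ZMod 2) M) = Nat.card M :=
  Nat.card_congr (Submodule.topEquiv (R := ZMod 2) (M := M)).toEquiv

theorem exists_moved {x : GLm M} (hx : x ≠ 1) : ∃ v, x v ≠ v := by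
  by_contra h
  push_neg at h
  exact hx (LinearEquiv.ext h)

theorem two_le [Finite M] {x : GLm M} (hx : x ≠ 1) : 2 * Nat.card (Fx glr (zpowers x)) ≤ Nat.card M := by
  obtain ⟨v, hv⟩ := exists_moved hx
  have h1 : Fx glr (zpowers x) < ⊤ := by
    refine lt_top_iff_ne_top.mpr fun h => hv (mem_fx_zpowers.mp ?_)
    rw [h]
    trivial
  have h2 := card_mul_le_of_lt h1
  rwa [card_top'] at h2

theorem chain_step [Finite M] {x : GLm M} (hx : IsPGroup 2 (zpowers x)) (hx1 : x ≠ 1) :
    2 * Nat.card (Fx glr (zpowers x)) ≤ Nat.card (Fx glr (zpowers (x ^ 2))) := by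
  set N : Module.End (ZMod 2) M := glr x - 1 with hN
  have hNv : ∀ v, N v = x v - v := fun v => rfl
  have hne : LinearMap.range N ≠ ⊥ := by
    intro hb
    obtain ⟨v, hv⟩ := exists_moved hx1
    have h1 : N v ∈ LinearMap.range N := ⟨v, rfl⟩
    rw [hb, Submodule.mem_bot, hNv, sub_eq_zero] at h1
    exact hv h1
  have hinv : ∀ b ∈ zpowers x, ∀ r ∈ LinearMap.range N, glr b r ∈ LinearMap.range N := by
    rintro b hb _ ⟨v, rfl⟩
    refine ⟨b v, ?_⟩
    have hcomm : x * b = b * x := by
      obtain ⟨k, rfl⟩ := hb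
      exact (Commute.refl x).zpow_right k
    have h2 : x (b v) = b (x v) := by
      have := congrArg (fun g : GLm M => g v) hcomm
      exact this
    rw [hNv, hNv, h2, glr_apply, map_sub]
  obtain ⟨r, ⟨v, rfl⟩, hr0, hrB⟩ := exists_fixed (ρ := glr) hx _ hinv hne
  have hfix : x (N v) = N v := hrB x (mem_zpowers x)
  rw [hNv, map_sub] at hfix
  have hv2 : x (x v) = v := by
    have h1 : x (x v) = (x v - v) + x v := by
      rw [← hfix]
      abel
    rw [h1]
    have h2 : x v + x v = 0 := add_self' _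
    have h3 : v + v = 0 := add_self' _
    have h4 : x v - v + x v = (x v + x v) - v := by abel
    rw [h4, h2, zero_sub]
    exact neg_eq_of_add_eq_zero_right h3
  have hlt : Fx glr (zpowers x) < Fx glr (zpowers (x ^ 2)) := by
    refine lt_of_le_of_ne (Fx_mono ?_) ?_
    · rw [zpowers_le]
      exact pow_mem (mem_zpowers x) 2
    · intro h
      have h1 : v ∈ Fx glr (zpowers (x ^ 2)) := by
        rw [mem_fx_zpowers]
        rw [sq]
        exact hv2
      rw [← h, mem_fx_zpowers] at h1
      apply hr0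
      rw [hNv, h1, sub_self]
  exact card_mul_le_of_lt hlt

theorem four_le [Finite M] (O : Subgroup (GLm M)) (hodd : Odd (Nat.card O)) {c : GLm M} (hc4 : c ^ 4 = 1)
    (hcN : c ∈ normalizer (O : Set (GLm M))) (hcC : c ^ 2 ∉ centralizer (O : Set (GLm M))) :
    4 * Nat.card (Fx glr (zpowers (c ^ 2))) ≤ Nat.card M := by
  by_contra hcon
  push_neg at hcon
  set t := c ^ 2 with ht
  have ht1 : t ≠ 1 := by
    intro h
    apply hcC
    rw [h]
    exact one_mem _
  have ht2 : t * t = 1 := by
    rw [ht, ← pow_add]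
    exact hc4
  obtain ⟨v₀, hv₀⟩ := exists_moved ht1
  set F := Fx glr (zpowers t) with hF
  have hv₀F : v₀ ∉ F := fun h => hv₀ (mem_fx_zpowers.mp h)
  set S := F ⊔ Submodule.span (ZMod 2) {v₀} with hS
  have hFS : F < S := by
    refine lt_of_le_of_ne le_sup_left fun h => hv₀F ?_
    rw [h]
    exact (le_sup_right : Submodule.span (ZMod 2) {v₀} ≤ S) (Submodule.mem_span_singleton_self v₀)
  have hStop : S = ⊤ := by
    by_contra hne
    have h1 := card_mul_le_of_lt hFS
    have h2 := card_mul_le_of_lt (lt_top_iff_ne_top.mpr hne)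
    rw [card_top'] at h2
    omega
  set a₀ := t v₀ + v₀ with ha₀
  have htt : ∀ v, t (t v) = v := fun v => by
    have := congrArg (fun g : GLm M => g v) ht2
    exact this
  have h2self : ∀ v : M, v + v = 0 := add_self'
  have hTv : IsTv t a₀ := by
    refine ⟨?_, ?_, ⟨v₀, ?_⟩, ?_⟩
    · intro h
      apply hv₀
      have h1 : t v₀ = -v₀ := eq_neg_of_add_eq_zero_left h
      rw [h1]
      exact neg_eq_of_add_eq_zero_right (h2self v₀)
    · intro v
      have hv : v ∈ S := by
        rw [hStop]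
        trivial
      obtain ⟨f, hf, w, hw, rfl⟩ := Submodule.mem_sup.mp hv
      obtain ⟨r, rfl⟩ := Submodule.mem_span_singleton.mp hw
      have hff : t f = f := mem_fx_zpowers.mp hf
      have hr : r = 0 ∨ r = 1 := (by decide : ∀ r : ZMod 2, r = 0 ∨ r = 1) r
      rcases hr with rfl | rfl
      · left
        simp [hff]
      · right
        simp only [one_smul, map_add, hff]
        rw [ha₀]
        have h3 : f + v₀ + (t v₀ + v₀) = f + t v₀ + (v₀ + v₀) := by abel
        rw [h3, h2self, add_zero]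
    · rw [ha₀]
      have h3 : v₀ + (t v₀ + v₀) = t v₀ + (v₀ + v₀) := by abel
      rw [h3, h2self, add_zero]
    · rw [ha₀, map_add, htt]
      exact add_comm _ _
  let ρ : ↥(normalizer (O : Set (GLm M))) →* (M ≃ₗ[ZMod 2] M) := (normalizer (O : Set (GLm M))).subtype
  haveI hnorm : (O.subgroupOf (normalizer (O : Set (GLm M)))).Normal := Subgroup.normal_in_normalizer
  haveI : Finite (GLm M) := finite_gl
  have hcard : Nat.card ↥(O.subgroupOf (normalizer (O : Set (GLm M)))) = Nat.card O :=
    Nat.card_congr (Subgroup.subgroupOfEquivOfLe le_normalizer).toEquiv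
  have h5 := centralizes_odd (ρ := ρ) Subtype.val_injective (O.subgroupOf (normalizer (O : Set (GLm M))))
    (by rw [hcard]; exact hodd) ⟨c, hcN⟩ (Subtype.ext hc4) a₀ hTv
  apply hcC
  rw [mem_centralizer_iff]
  intro x hx
  have h6 := h5 ⟨x, le_normalizer hx⟩ (Subgroup.mem_subgroupOf.mpr hx)
  have h7 : x * c ^ 2 * x⁻¹ = c ^ 2 := congrArg Subtype.val h6
  calc x * c ^ 2 = x * c ^ 2 * x⁻¹ * x := by group
    _ = c ^ 2 * x := by rw [h7]

theorem cyclic_bound [Finite M] (O : Subgroup (GLm M)) (hodd : Odd (Nat.card O)) (a : GLm M)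
    (hN : a ∈ normalizer (O : Set (GLm M))) (hA2 : IsPGroup 2 (zpowers a))
    (hf : ∀ k : ℕ, a ^ k ≠ 1 → a ^ k ∉ centralizer (O : Set (GLm M))) :
    Nat.card (zpowers a) * Nat.card (Fx glr (zpowers a)) ≤ Nat.card M ∧
      (Nat.card (zpowers a) * Nat.card (Fx glr (zpowers a)) = Nat.card M → ∀ b ∈ zpowers a, b ^ 2 = 1) := by
  haveI : Finite (GLm M) := finite_gl
  obtain ⟨k, hk⟩ := hA2 ⟨a, mem_zpowers a⟩
  obtain ⟨e, -, he⟩ := (Nat.dvd_prime_pow Nat.prime_two).mp
    (orderOf_dvd_of_pow_eq_one (congrArg Subtype.val hk : a ^ (2 ^ k) = 1))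
  have hcard : Nat.card (zpowers a) = 2 ^ e := by rw [Nat.card_zpowers, he]
  rw [hcard]
  cases e with
  | zero =>
    have ha1 : a = 1 := orderOf_eq_one_iff.mp (by simpa using he)
    subst ha1
    simp only [pow_zero, one_mul, zpowers_one_eq_bot, Fx_bot, card_top', le_refl, true_and]
    intro _ b hb
    rw [Subgroup.mem_bot.mp hb, one_pow]
  | succ e =>
    have hne : ∀ j, j ≤ e → a ^ (2 ^ j) ≠ 1 := by
      intro j hj
      apply pow_ne_one_of_lt_orderOf (by positivity)
      rw [he]
      exact Nat.pow_lt_pow_right (by norm_num) (by omega)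
    have hpg : ∀ j : ℕ, IsPGroup 2 (zpowers (a ^ j)) := by
      intro j
      refine hA2.to_le ?_
      rw [zpowers_le]
      exact npow_mem_zpowers a j
    have hchain : ∀ j, j ≤ e → 2 ^ j * Nat.card (Fx glr (zpowers a)) ≤ Nat.card (Fx glr (zpowers (a ^ (2 ^ j)))) := by
      intro j
      induction j with
      | zero =>
        intro _
        simp
      | succ j ih =>
        intro hj
        have h1 := ih (by omega)
        have h2 := chain_step (hpg (2 ^ j)) (hne j (by omega))
        rw [← pow_mul, ← pow_succ] at h2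
        calc 2 ^ (j + 1) * Nat.card (Fx glr (zpowers a)) = 2 * (2 ^ j * Nat.card (Fx glr (zpowers a))) := by ring
          _ ≤ 2 * Nat.card (Fx glr (zpowers (a ^ 2 ^ j))) := Nat.mul_le_mul_left _ h1
          _ ≤ _ := h2
    have h3 := hchain e le_rfl
    cases e with
    | zero =>
      have h4 := two_le (hne 0 (by omega))
      simp only [pow_zero, pow_one] at h3 h4
      refine ⟨by simpa using h4, fun _ b hb => ?_⟩
      obtain ⟨n, rfl⟩ := hb
      have ha2 : a ^ 2 = 1 := orderOf_dvd_iff_pow_eq_one.mp (dvd_of_eq (by simpa using he))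
      show (a ^ n) ^ 2 = 1
      rw [← zpow_natCast, ← zpow_mul, mul_comm, zpow_mul, zpow_natCast, ha2, one_zpow]
    | succ e =>
      set c := a ^ (2 ^ e) with hc
      have hc2 : c ^ 2 = a ^ (2 ^ (e + 1)) := by
        rw [hc, ← pow_mul, pow_succ]
      have hc4 : c ^ 4 = 1 := by
        have : (4 : ℕ) = 2 ^ 2 := by norm_num
        rw [hc, ← pow_mul, this, ← pow_add, ← he, pow_orderOf_eq_one]
      have hcN : c ∈ normalizer (O : Set (GLm M)) := pow_mem hN _
      have hcC : c ^ 2 ∉ centralizer (O : Set (GLm M)) := by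
        rw [hc2]
        exact hf _ (hne _ le_rfl)
      have h4 := four_le O hodd hc4 hcN hcC
      rw [hc2] at h4
      have hpos : 0 < Nat.card (Fx glr (zpowers a)) := Nat.card_pos
      have h5 : 2 * (2 ^ (e + 1 + 1) * Nat.card (Fx glr (zpowers a))) ≤ Nat.card M := by
        calc 2 * (2 ^ (e + 1 + 1) * Nat.card (Fx glr (zpowers a))) = 4 * (2 ^ (e + 1) * Nat.card (Fx glr (zpowers a))) := by
              rw [pow_succ 2 (e + 1)]
              ring
          _ ≤ 4 * Nat.card (Fx glr (zpowers (a ^ 2 ^ (e + 1)))) := Nat.mul_le_mul_left 4 h3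
          _ ≤ _ := h4
      have h6 : 0 < 2 ^ (e + 1 + 1) * Nat.card (Fx glr (zpowers a)) := by positivity
      refine ⟨by omega, fun h7 => ?_⟩
      omega

section res

variable (B : Subgroup (GLm M))

theorem fx_inv {g : GLm M} (hg : g ∈ centralizer (B : Set (GLm M))) {v : M} (hv : v ∈ Fx glr B) :
    g v ∈ Fx glr B := by
  intro b hb
  have h1 := mem_centralizer_iff.mp hg b hb
  have h3 : b v = v := hv b hb
  show b (g v) = g v
  calc b (g v) = (b * g) v := rfl
    _ = (g * b) v := by rw [h1]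
    _ = g (b v) := rfl
    _ = g v := by rw [h3]

/-- Restriction to the fixed points of `B`. -/
def resHom : centralizer (B : Set (GLm M)) →* GLm ↥(Fx glr B) where
  toFun g := LinearEquiv.ofLinear
    ((g : GLm M).toLinearMap.restrict (fun v hv => fx_inv B g.2 hv))
    (((g : GLm M)⁻¹).toLinearMap.restrict (fun v hv => fx_inv B (inv_mem g.2) hv))
    (by
      ext v
      exact (rho_apply_inv (ρ := glr) (g : GLm M) (v : M)))
    (by
      ext v
      exact (rho_inv_apply (ρ := glr) (g : GLm M) (v : M)))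
  map_one' := by
    ext v
    rfl
  map_mul' _ _ := by
    ext v
    rfl

theorem resHom_coe (g : centralizer (B : Set (GLm M))) (v : ↥(Fx glr B)) :
    ((resHom B g v : ↥(Fx glr B)) : M) = (g : GLm M) v := rfl

/-- The image of a subgroup in the restriction. -/
def pushS (S : Subgroup (GLm M)) : Subgroup (GLm ↥(Fx glr B)) :=
  (S.subgroupOf (centralizer (B : Set (GLm M)))).map (resHom B)

theorem push_mem {S : Subgroup (GLm M)} {g : GLm M} (hg : g ∈ S) (hgL : g ∈ centralizer (B : Set (GLm M))) :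
    resHom B ⟨g, hgL⟩ ∈ pushS B S :=
  ⟨⟨g, hgL⟩, Subgroup.mem_subgroupOf.mpr hg, rfl⟩

theorem mem_push {S : Subgroup (GLm M)} {y : GLm ↥(Fx glr B)} :
    y ∈ pushS B S ↔ ∃ g, ∃ hg : g ∈ S, ∃ hgL : g ∈ centralizer (B : Set (GLm M)), resHom B ⟨g, hgL⟩ = y := by
  constructor
  · rintro ⟨⟨g, hgL⟩, hg, rfl⟩
    exact ⟨g, Subgroup.mem_subgroupOf.mp hg, hgL, rfl⟩
  · rintro ⟨g, hg, hgL, rfl⟩
    exact push_mem B hg hgL

theorem card_Fx_push {A : Subgroup (GLm M)} (hBA : B ≤ A) (hAL : A ≤ centralizer (B : Set (GLm M))) :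
    Nat.card (Fx glr (pushS B A)) = Nat.card (Fx glr A) := by
  have h1 : ∀ v : Fx glr (pushS B A), ((v : ↥(Fx glr B)) : M) ∈ Fx glr A := by
    intro v a ha
    have := v.2 _ (push_mem B ha (hAL ha))
    exact congrArg Subtype.val this
  have h2 : ∀ v : Fx glr A, (v : M) ∈ Fx glr B := fun v => Fx_mono hBA v.2
  have h3 : ∀ v : Fx glr A, (⟨(v : M), h2 v⟩ : ↥(Fx glr B)) ∈ Fx glr (pushS B A) := by
    intro v y hy
    obtain ⟨g, hg, hgL, rfl⟩ := (mem_push B).mp hy
    exact Subtype.ext (v.2 g hg)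
  exact Nat.card_congr
    { toFun := fun v => ⟨((v : ↥(Fx glr B)) : M), h1 v⟩
      invFun := fun v => ⟨⟨(v : M), h2 v⟩, h3 v⟩
      left_inv := fun v => rfl
      right_inv := fun v => rfl }

theorem card_push [Finite M] {A : Subgroup (GLm M)} (hBA : B ≤ A) (hAL : A ≤ centralizer (B : Set (GLm M)))
    (hker : ∀ a ∈ A, (∀ v ∈ Fx glr B, a v = v) → a ∈ B) :
    Nat.card (pushS B A) * Nat.card B = Nat.card A := by
  haveI : Finite (GLm M) := finite_gl
  set K := A.subgroupOf (centralizer (B : Set (GLm M))) with hK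
  have h1 := card_map_mul_inf (resHom B) K
  have h2 : Nat.card K = Nat.card A := Nat.card_congr (Subgroup.subgroupOfEquivOfLe hAL).toEquiv
  have h3 : (K ⊓ (resHom B).ker).map (centralizer (B : Set (GLm M))).subtype = B := by
    apply le_antisymm
    · rintro _ ⟨⟨g, hgL⟩, ⟨hgK, hgk⟩, rfl⟩
      apply hker g (Subgroup.mem_subgroupOf.mp hgK)
      intro v hv
      have h4 : resHom B ⟨g, hgL⟩ = 1 := hgk
      have h5 := congrArg (fun f : GLm ↥(Fx glr B) => ((f ⟨v, hv⟩ : ↥(Fx glr B)) : M)) h4
      exact h5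
    · intro b hb
      have hbL := hAL (hBA hb)
      refine ⟨⟨b, hbL⟩, ⟨Subgroup.mem_subgroupOf.mpr (hBA hb), ?_⟩, rfl⟩
      show resHom B ⟨b, hbL⟩ = 1
      ext v
      exact v.2 b hb
  have h4 : Nat.card ↥(K ⊓ (resHom B).ker) = Nat.card B := by
    have h5 : Nat.card ↥((K ⊓ (resHom B).ker).map (centralizer (B : Set (GLm M))).subtype) = Nat.card ↥(K ⊓ (resHom B).ker) :=
      Subgroup.card_map_of_injective (centralizer (B : Set (GLm M))).subtype_injective
    rw [h3] at h5
    exact h5.symm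
  rw [h4, h2] at h1
  exact h1

end res

theorem reduce_core [Finite M] {O A Q : Subgroup (GLm M)} (hodd : Odd (Nat.card O))
    (hc : ∀ a ∈ A, ∀ b ∈ A, a * b = b * a) (hA2 : IsPGroup 2 A)
    (hQO : Q ≤ O) (hAQ : ∀ a ∈ A, ∀ x ∈ Q, a * x * a⁻¹ ∈ Q) {a x : GLm M} (ha : a ∈ A) (hx : x ∈ Q)
    (h : ∀ u ∈ Fx glr (A ⊓ centralizer (Q : Set (GLm M))), a (x u) = x (a u)) : x * a = a * x := by
  haveI : Finite (GLm M) := finite_gl
  set B := A ⊓ centralizer (Q : Set (GLm M)) with hB
  have hQL : Q ≤ centralizer (B : Set (GLm M)) := by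
    intro y hy
    rw [mem_centralizer_iff]
    intro b hb
    exact (mem_centralizer_iff.mp hb.2 y hy).symm
  have hAL : A ≤ centralizer (B : Set (GLm M)) := by
    intro y hy
    rw [mem_centralizer_iff]
    intro b hb
    exact hc b hb.1 y hy
  have hB2 : IsPGroup 2 B := hA2.to_le inf_le_left
  set y := a * x * a⁻¹ * x⁻¹ with hy
  have hyQ : y ∈ Q := mul_mem (hAQ a ha x hx) (inv_mem hx)
  have hyB : ∀ b ∈ B, b * y = y * b := fun b hb => mem_centralizer_iff.mp (hQL hyQ) b hb
  have hyc : (orderOf y).Coprime 2 :=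
    Nat.coprime_two_right.mpr (Odd.of_dvd_nat hodd (Subgroup.orderOf_dvd_natCard O (hQO hyQ)))
  have hyt : ∀ v ∈ Fx glr B, glr y v = v := by
    intro v hv
    have h1 : x⁻¹ v ∈ Fx glr B := fx_inv B (inv_mem (hQL hx)) hv
    have h2 : a⁻¹ (x⁻¹ v) ∈ Fx glr B := fx_inv B (inv_mem (hAL ha)) h1
    have h3 := h _ h2
    show a (x (a⁻¹ (x⁻¹ v))) = v
    rw [h3]
    have h4 : a (a⁻¹ (x⁻¹ v)) = x⁻¹ v := rho_apply_inv (ρ := glr) a _
    rw [h4]
    exact rho_apply_inv (ρ := glr) x _
  have h1 : y = 1 := axb glr_inj hB2 hyB hyc hyt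
  have h2 : a * x * a⁻¹ = x := by
    rw [hy, mul_inv_eq_one] at h1
    exact h1
  calc x * a = a * x * a⁻¹ * a := by rw [h2]
    _ = a * x := by group

/-- **The bound.** -/
theorem bound_gl : ∀ (n : ℕ) (M : Type u) [AddCommGroup M] [Module (ZMod 2) M] [Finite M]
    (O A : Subgroup (GLm M)), Nat.card A ≤ n → Odd (Nat.card O) →
    (∀ a ∈ A, ∀ x ∈ O, a * x * a⁻¹ ∈ O) → (∀ a ∈ A, ∀ b ∈ A, a * b = b * a) → IsPGroup 2 A →
    (∀ a ∈ A, a ∈ centralizer (O : Set (GLm M)) → a = 1) →
    Nat.card A * Nat.card (Fx glr A) ≤ Nat.card M ∧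
      (Nat.card A * Nat.card (Fx glr A) = Nat.card M → ∀ a ∈ A, a ^ 2 = 1) := by
  intro n
  induction n with
  | zero =>
    intro M _ _ _ O A hn
    haveI : Finite (GLm M) := finite_gl
    have := Nat.card_pos (α := A)
    omega
  | succ n ih =>
    intro M _ _ _ O A hn hodd hAO hc hA2 hf
    haveI : Finite (GLm M) := finite_gl
    by_cases hbot : A = ⊥
    · subst hbot
      simp only [Subgroup.card_bot, one_mul, Fx_bot, card_top', le_refl, true_and]
      intro _ a ha
      rw [Subgroup.mem_bot.mp ha, one_pow]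
    obtain ⟨t, htA, ht1, ht2, htc⟩ := exists_choice hA2 hbot
    have htC : t ∉ centralizer (O : Set (GLm M)) := fun h => ht1 (hf t htA h)
    have hoddnd : ¬ 2 ∣ Nat.card O := hodd.not_two_dvd_nat
    obtain ⟨H, hHA, hHi, hHt⟩ := exists_hyper (om1_ea A hc) hoddnd (fun a ha x hx => hAO a ha.1 x hx) htC
    set Q := O ⊓ centralizer (H : Set (GLm M)) with hQ
    have hQO : Q ≤ O := inf_le_left
    have hAQ : ∀ a ∈ A, ∀ x ∈ Q, a * x * a⁻¹ ∈ Q := by
      intro a ha x hx
      refine Subgroup.mem_inf.mpr ⟨hAO a ha x hx.1, mem_centralizer_iff.mpr ?_⟩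
      intro h hh
      have h1 := mem_centralizer_iff.mp hx.2 h hh
      have h2 : h * a = a * h := hc h (hHA hh).1 a ha
      have h3 : Commute h a := h2
      have h4 : Commute h x := h1
      exact (h3.mul_right h4).mul_right h3.inv_right
    set B := A ⊓ centralizer (Q : Set (GLm M)) with hB
    have htB : t ∉ B := fun h => hHt h.2
    have hHB : H ≤ B := by
      intro h hh
      refine Subgroup.mem_inf.mpr ⟨(hHA hh).1, mem_centralizer_iff.mpr ?_⟩
      intro x hx
      exact (mem_centralizer_iff.mp hx.2 h hh).symm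
    have hBA : B ≤ A := inf_le_left
    by_cases hB0 : B = ⊥
    · -- the cyclic case
      have hH0 : H = ⊥ := by
        rw [eq_bot_iff, ← hB0]
        exact hHB
      rw [hH0, Subgroup.relIndex_bot_left] at hHi
      have huniq : ∀ a ∈ A, ∀ b ∈ A, a ^ 2 = 1 → b ^ 2 = 1 → a ≠ 1 → b ≠ 1 → a = b := by
        intro a ha b hb ha2 hb2 ha1 hb1
        by_contra hab
        set S := om1 A hc with hS
        let f : Fin 3 → S := ![1, ⟨a, ha, ha2⟩, ⟨b, hb, hb2⟩]
        have hinj : Function.Injective f := by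
          intro i j hij
          have hval : ((f i : S) : GLm M) = (f j : S) := congrArg Subtype.val hij
          fin_cases i <;> fin_cases j <;> first
            | rfl
            | (exfalso; simp [f] at hval; first | exact ha1 hval | exact hb1 hval | exact hab hval | exact ha1 hval.symm | exact hb1 hval.symm | exact hab hval.symm)
        have h3 := Nat.card_le_card_of_injective f hinj
        simp only [Nat.card_eq_fintype_card, Fintype.card_fin] at h3
        omega
      obtain ⟨a, ha, rfl⟩ := exists_generator hc hA2 huniq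
      refine cyclic_bound O hodd a ?_ hA2 ?_
      · rw [mem_normalizer_iff]
        intro x
        refine ⟨fun hx => hAO a ha x hx, fun hx => ?_⟩
        have := hAO a⁻¹ (inv_mem ha) _ hx
        simpa [mul_assoc] using this
      · intro k hk hkC
        exact hk (hf _ (npow_mem_zpowers a k) hkC)
    · -- the reduction
      have hQL : Q ≤ centralizer (B : Set (GLm M)) := by
        intro y hy
        rw [mem_centralizer_iff]
        intro b hb
        exact (mem_centralizer_iff.mp hb.2 y hy).symm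
      have hAL : A ≤ centralizer (B : Set (GLm M)) := by
        intro y hy
        rw [mem_centralizer_iff]
        intro b hb
        exact hc b hb.1 y hy
      have hker : ∀ a ∈ A, (∀ v ∈ Fx glr B, a v = v) → a ∈ B := by
        intro a ha hv
        refine Subgroup.mem_inf.mpr ⟨ha, mem_centralizer_iff.mpr ?_⟩
        intro x hx
        refine reduce_core hodd hc hA2 hQO hAQ ha hx ?_
        intro u hu
        rw [hv u hu, hv _ (fx_inv B (hQL hx) hu)]
      have hcard := card_push B hBA hAL hker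
      haveI : Finite (GLm ↥(Fx glr B)) := finite_gl
      have hB2card : 2 ≤ Nat.card B := by
        have h1 : B < ⊤ ∨ B = ⊤ := lt_or_eq_of_le le_top
        have h2 : Nat.card B ≠ 1 := by
          intro h
          exact hB0 (Subgroup.card_eq_one.mp h)
        have h3 : 0 < Nat.card B := Nat.card_pos
        omega
      have hBlt : B < A := lt_of_le_of_ne hBA (fun h => htB (h ▸ htA))
      have hBcard := mul_card_le_of_lt hA2 hBlt
      have hpcard : Nat.card (pushS B A) ≤ n := by
        have h1 : Nat.card (pushS B A) * 2 ≤ Nat.card (pushS B A) * Nat.card B := Nat.mul_le_mul_left _ hB2card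
        have h3 : 0 < Nat.card (pushS B A) := Nat.card_pos
        omega
      -- hypotheses for the restricted action
      have hodd' : Odd (Nat.card (pushS B Q)) := by
        have h1 := card_map_mul_inf (resHom B) (Q.subgroupOf (centralizer (B : Set (GLm M))))
        have h2 : Nat.card (Q.subgroupOf (centralizer (B : Set (GLm M)))) = Nat.card Q :=
          Nat.card_congr (Subgroup.subgroupOfEquivOfLe hQL).toEquiv
        rw [h2] at h1
        exact Odd.of_dvd_nat (Odd.of_dvd_nat hodd (Subgroup.card_dvd_of_le hQO)) (Dvd.intro _ h1)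
      have hAO' : ∀ a ∈ pushS B A, ∀ x ∈ pushS B Q, a * x * a⁻¹ ∈ pushS B Q := by
        intro y hy z hz
        obtain ⟨a, ha, haL, rfl⟩ := (mem_push B).mp hy
        obtain ⟨x, hx, hxL, rfl⟩ := (mem_push B).mp hz
        rw [← map_inv, ← map_mul, ← map_mul]
        exact push_mem B (hAQ a ha x hx) _
      have hc' : ∀ a ∈ pushS B A, ∀ b ∈ pushS B A, a * b = b * a := by
        intro y hy z hz
        obtain ⟨a, ha, haL, rfl⟩ := (mem_push B).mp hy
        obtain ⟨b, hb, hbL, rfl⟩ := (mem_push B).mp hz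
        rw [← map_mul, ← map_mul]
        congr 1
        exact Subtype.ext (hc a ha b hb)
      have hA2' : IsPGroup 2 (pushS B A) := by
        have h1 : IsPGroup 2 (A.subgroupOf (centralizer (B : Set (GLm M)))) := hA2.comap_subtype
        exact h1.map _
      have hf' : ∀ a ∈ pushS B A, a ∈ centralizer ((pushS B Q : Subgroup _) : Set (GLm ↥(Fx glr B))) → a = 1 := by
        intro y hy hyC
        obtain ⟨a, ha, haL, rfl⟩ := (mem_push B).mp hy
        have haB : a ∈ B := by
          refine Subgroup.mem_inf.mpr ⟨ha, mem_centralizer_iff.mpr ?_⟩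
          intro x hx
          refine reduce_core hodd hc hA2 hQO hAQ ha hx ?_
          intro u hu
          have h1 := mem_centralizer_iff.mp hyC _ (push_mem B hx (hQL hx))
          have h2 := congrArg (fun f : GLm ↥(Fx glr B) => ((f ⟨u, hu⟩ : ↥(Fx glr B)) : M)) h1
          exact h2.symm
        ext v
        exact v.2 a haB
      have h1 := ih (↥(Fx glr B)) (pushS B Q) (pushS B A) hpcard hodd' hAO' hc' hA2' hf'
      have h2 := ih M O B (by omega) hodd (fun a ha x hx => hAO a ha.1 x hx)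
        (fun a ha b hb => hc a ha.1 b hb.1) (hA2.to_le hBA) (fun a ha hC => hf a ha.1 hC)
      rw [card_Fx_push B hBA hAL] at h1
      have hEcard : Nat.card (↥(Fx glr B)) = Nat.card (Fx glr B) := rfl
      have h3 : Nat.card A * Nat.card (Fx glr A) =
          Nat.card B * (Nat.card (pushS B A) * Nat.card (Fx glr A)) := by
        rw [← hcard]
        ring
      have h4 : Nat.card A * Nat.card (Fx glr A) ≤ Nat.card M :=
        h3.le.trans ((Nat.mul_le_mul_left _ h1.1).trans h2.1)
      refine ⟨h4, fun heq => ?_⟩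
      -- equality
      have hBpos : 0 < Nat.card B := Nat.card_pos
      have h5 : Nat.card (pushS B A) * Nat.card (Fx glr A) = Nat.card (Fx glr B) := by
        apply le_antisymm h1.1
        have h6 : Nat.card B * Nat.card (Fx glr B) ≤ Nat.card B * (Nat.card (pushS B A) * Nat.card (Fx glr A)) := by
          rw [← h3, heq]
          exact h2.1
        exact Nat.le_of_mul_le_mul_left h6 hBpos
      have h7 := h1.2 h5
      have hsq : ∀ a ∈ A, a ^ 2 ∈ B := by
        intro a ha
        apply hker _ (pow_mem ha 2)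
        intro v hv
        have h8 := h7 _ (push_mem B ha (hAL ha))
        have h9 := congrArg (fun f : GLm ↥(Fx glr B) => ((f ⟨v, hv⟩ : ↥(Fx glr B)) : M)) h8
        exact h9
      by_contra hcon
      push_neg at hcon
      obtain ⟨c, hcA, hc2⟩ := htc hcon
      apply htB
      rw [← hc2]
      exact hsq c hcA

end gl

end Cfsg.Agent.Lib.OffBound
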