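import Mathlib
import Cfsg.Agent.Lib.OffBound.Bound
import Cfsg.Agent.Lib.Offender.JBar
import Cfsg.Agent.Lib.FrobThm.JJ
import Cfsg.Agent.Lib.FrobThm.Replacement
import Cfsg.Agent.Lib.CharExtra.PSolvOfSolv
import Cfsg.Agent.Lib.Geo.PrimSolvable
import Cfsg.Agent.Lib.GS1.EqOrd
import Cfsg.Agent.Lib.Cl.Embedded

/-! Solvable groups with `F = O₂`: the image of the normal closure of `J(T)` modulo the centralizer of `Z(T)`. -/

set_option autoImplicit false
set_option linter.unusedSectionVars false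
set_option linter.unusedSimpArgs false
set_option linter.unusedVariables false
set_option linter.unnecessarySimpa false

namespace Cfsg.Agent.Lib.OffBound

open Subgroup Cfsg Cfsg.Agent.Lib.Offender Cfsg.Agent.Lib.Core
open Cfsg.Agent.Lib.FrobThm (AA JJ EA EA.sup EA.mono le_JJ JJ_le card_sup_mul_inf le_normalizer_of_commute
  AA_map EA.map mem_normalizer_of_forall_conj_mem)
open scoped MatrixGroups

universe u

section rep

variable {Γ : Type*} [Group Γ] [Finite Γ] {M : Type u} [AddCommGroup M] [Module (ZMod 2) M] [Finite M]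
variable {ρ : Γ →* Module.End (ZMod 2) M}

/-- The representation with values in the linear group. -/
def toGL (ρ : Γ →* Module.End (ZMod 2) M) : Γ →* GLm M where
  toFun g := LinearEquiv.ofLinear (ρ g) (ρ g⁻¹)
    (by
      ext v
      exact rho_apply_inv (ρ := ρ) g v)
    (by
      ext v
      exact rho_inv_apply (ρ := ρ) g v)
  map_one' := by
    ext v
    exact rho_one (ρ := ρ) v
  map_mul' x y := by
    ext v
    exact rho_mul (ρ := ρ) x y v

theorem toGL_apply (g : Γ) (v : M) : toGL ρ g v = ρ g v := rfl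

theorem toGL_inj (hinj : Function.Injective ρ) : Function.Injective (toGL ρ) := fun x y h =>
  hinj (LinearMap.ext fun v => by
    have := congrArg (fun f : GLm M => f v) h
    exact this)

theorem Fx_toGL (A : Subgroup Γ) : Fx glr (A.map (toGL ρ)) = Fx ρ A := by
  ext v
  constructor
  · intro h a ha
    exact h _ ⟨a, ha, rfl⟩
  · rintro h _ ⟨a, ha, rfl⟩
    exact h a ha

theorem bound_rep (hinj : Function.Injective ρ) {O : Subgroup Γ} [hOn : O.Normal] (hodd : Odd (Nat.card O))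
    (hC : centralizer (O : Set Γ) ≤ O) {A : Subgroup Γ} (hc : ∀ a ∈ A, ∀ b ∈ A, a * b = b * a)
    (hA2 : IsPGroup 2 A) :
    Nat.card A * Nat.card (Fx ρ A) ≤ Nat.card M ∧
      (Nat.card A * Nat.card (Fx ρ A) = Nat.card M → ∀ a ∈ A, a ^ 2 = 1) := by
  have hi := toGL_inj (ρ := ρ) hinj
  have hcardA : Nat.card (A.map (toGL ρ)) = Nat.card A := Subgroup.card_map_of_injective hi
  have hcardO : Nat.card (O.map (toGL ρ)) = Nat.card O := Subgroup.card_map_of_injective hi
  have h := bound_gl _ M (O.map (toGL ρ)) (A.map (toGL ρ)) le_rfl (by rw [hcardO]; exact hodd) ?_ ?_ ?_ ?_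
  · rw [hcardA, Fx_toGL] at h
    refine ⟨h.1, fun heq a ha => ?_⟩
    have h1 := h.2 heq _ ⟨a, ha, rfl⟩
    apply hi
    rw [map_pow, h1, map_one]
  · rintro _ ⟨a, ha, rfl⟩ _ ⟨x, hx, rfl⟩
    rw [← map_inv, ← map_mul, ← map_mul]
    exact ⟨_, hOn.conj_mem x hx a, rfl⟩
  · rintro _ ⟨a, ha, rfl⟩ _ ⟨b, hb, rfl⟩
    rw [← map_mul, ← map_mul, hc a ha b hb]
  · exact hA2.map _
  · rintro _ ⟨a, ha, rfl⟩ hC'
    have haC : a ∈ centralizer (O : Set Γ) := by
      rw [mem_centralizer_iff]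
      intro x hx
      apply hi
      rw [map_mul, map_mul]
      exact mem_centralizer_iff.mp hC' _ ⟨x, hx, rfl⟩
    have haO := hC haC
    have h1 : orderOf a ∣ Nat.card O := Subgroup.orderOf_dvd_natCard O haO
    obtain ⟨k, hk⟩ := hA2 ⟨a, ha⟩
    obtain ⟨m, -, hm⟩ := (Nat.dvd_prime_pow Nat.prime_two).mp
      (orderOf_dvd_of_pow_eq_one (congrArg Subtype.val hk : a ^ (2 ^ k) = 1))
    cases m with
    | zero =>
      have ha1 : a = 1 := orderOf_eq_one_iff.mp (by simpa using hm)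
      rw [ha1, map_one]
    | succ m =>
      exfalso
      apply hodd.not_two_dvd_nat
      exact (dvd_pow_self 2 (by omega)).trans (hm ▸ h1)

theorem bo_of_eq (hinj : Function.Injective ρ) {O : Subgroup Γ} [hOn : O.Normal] (hodd : Odd (Nat.card O))
    (hC : centralizer (O : Set Γ) ≤ O) {A : Subgroup Γ} (hc : ∀ a ∈ A, ∀ b ∈ A, a * b = b * a)
    (hA2 : IsPGroup 2 A) (heq : Nat.card A * Nat.card (Fx ρ A) = Nat.card M) : BO ρ A :=
  ⟨fun B hB => by
      rw [heq]
      exact (bound_rep hinj hodd hC (fun a ha b hb => hc a (hB ha) b (hB hb)) (hA2.to_le hB)).1,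
    hc, (bound_rep hinj hodd hC hc hA2).2 heq⟩

theorem sl22_iso : Nonempty (SL(2, ZMod 2) ≃* Equiv.Perm (Fin 3)) := by
  apply Cfsg.Agent.Lib.GS1.iso_perm_three
  · rw [Nat.card_eq_fintype_card]
    decide
  · decide

/-- A family of planes gives a product of copies of `S₃`. -/
theorem iso_of_fam {O : Subgroup Γ} [hOn : O.Normal] (hinj : Function.Injective ρ) (hOp : (Nat.card O).Coprime 2)
    (hFam : Fam ρ O (fun E : {E : Subgroup Γ // IsE ρ O E} => (E : Subgroup Γ))) :
    ∃ n : ℕ, Nonempty (Γ ≃* (Fin n → Equiv.Perm (Fin 3))) := by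
  classical
  haveI : Finite (Subgroup Γ) := Finite.of_injective (fun H : Subgroup Γ => (H : Set Γ)) SetLike.coe_injective
  haveI : Fintype {E : Subgroup Γ // IsE ρ O E} := Fintype.ofFinite _
  have hcomm : Pairwise fun i j : {E : Subgroup Γ // IsE ρ O E} =>
      ∀ x y : Γ, x ∈ (i : Subgroup Γ) → y ∈ (j : Subgroup Γ) → Commute x y :=
    fun i j hij x y hx hy => (hFam.cross hinj hOp hij).2 x hx y hy
  let Φ := Subgroup.noncommPiCoprod hcomm
  have hinjΦ : Function.Injective Φ := Subgroup.injective_noncommPiCoprod_of_iSupIndep (hFam.indep hinj hOp)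
  have hsurj : Function.Surjective Φ := by
    rw [← MonoidHom.range_eq_top, Subgroup.noncommPiCoprod_range]
    exact hFam.sup
  let Ψ : (∀ i : {E : Subgroup Γ // IsE ρ O E}, (i : Subgroup Γ)) ≃* Γ := MulEquiv.ofBijective Φ ⟨hinjΦ, hsurj⟩
  have hiso : ∀ i : {E : Subgroup Γ // IsE ρ O E}, Nonempty (↥(i : Subgroup Γ) ≃* Equiv.Perm (Fin 3)) := by
    intro i
    obtain ⟨e₁⟩ := (hFam.isE i).iso
    obtain ⟨e₂⟩ := sl22_iso
    exact ⟨e₁.trans e₂⟩
  let e : ∀ i : {E : Subgroup Γ // IsE ρ O E}, ↥(i : Subgroup Γ) ≃* Equiv.Perm (Fin 3) :=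
    fun i => Classical.choice (hiso i)
  let eι := Finite.equivFin {E : Subgroup Γ // IsE ρ O E}
  exact ⟨_, ⟨Ψ.symm.trans ((MulEquiv.piCongrRight e).trans (MulEquiv.arrowCongr eι (MulEquiv.refl _)))⟩⟩

end rep

section X

variable {X : Type u} [Group X] [Finite X]

theorem om1_normal {W : Subgroup X} [hW : W.Normal] (hc : ∀ a ∈ W, ∀ b ∈ W, a * b = b * a) : (om1 W hc).Normal :=
  ⟨fun n hn g => ⟨hW.conj_mem n hn.1 g, by rw [conj_pow, hn.2, mul_one, mul_inv_cancel]⟩⟩

theorem frattini_JJ (e : ℕ) (P : Sylow 2 X) :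
    normalClosure (JJ e (P : Subgroup X) : Set X) ⊔ normalizer (JJ e (P : Subgroup X) : Set X) = ⊤ := by
  rw [eq_top_iff]
  intro g _
  set J := JJ e (P : Subgroup X) with hJ
  set Y := normalClosure (J : Set X) with hY
  haveI hYn : Y.Normal := normalClosure_normal
  have hJY : J ≤ Y := subset_normalClosure
  let A : Subgroup X := J.map (MulAut.conj g).toMonoidHom
  have hAY : A ≤ (P : Subgroup X) ⊔ Y := by
    rintro _ ⟨j, hj, rfl⟩
    exact (le_sup_right : Y ≤ _) (hYn.conj_mem j (hJY hj) g)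
  have hAp : IsPGroup 2 A := (P.isPGroup'.to_le JJ_le).map _
  obtain ⟨k, hk, hkA⟩ := Cfsg.Agent.Lib.Cl.exists_conj_le_sylow_of_le (P := P) le_sup_left hAY hAp
  rw [← SetLike.mem_coe, Subgroup.mul_normal, Set.mem_mul] at hk
  obtain ⟨s, hs, h, hh, rfl⟩ := hk
  set u := h * g with hu
  have hconj : ∀ j ∈ J, u * j * u⁻¹ ∈ (P : Subgroup X) := by
    intro j hj
    have h1 := hkA (g * j * g⁻¹) ⟨j, hj, rfl⟩
    have h2 := (P : Subgroup X).mul_mem ((P : Subgroup X).mul_mem ((P : Subgroup X).inv_mem hs) h1) hs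
    have e' : s⁻¹ * (s * h * (g * j * g⁻¹) * (s * h)⁻¹) * s = u * j * u⁻¹ := by
      rw [hu]
      group
    rwa [e'] at h2
  have huN : u ∈ normalizer (J : Set X) := by
    apply mem_normalizer_of_forall_conj_mem
    have hle : J ≤ J.comap (MulAut.conj u).toMonoidHom := by
      apply sSup_le
      intro B hB b hb
      have hBJ : B ≤ J := le_JJ hB
      let B' : Subgroup X := B.map (MulAut.conj u).toMonoidHom
      have hB' : B' ∈ AA e (P : Subgroup X) := by
        refine ⟨?_, hB.2.1.map _, ?_⟩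
        · rintro _ ⟨x, hx, rfl⟩
          exact hconj x (hBJ hx)
        · intro C hC hCe
          have h3 : Nat.card B' = Nat.card B := Subgroup.card_map_of_injective (MulAut.conj u).injective
          rw [h3]
          exact hB.2.2 C hC hCe
      exact le_JJ hB' ⟨b, hb, rfl⟩
    intro a ha
    exact hle ha
  have e' : g = h⁻¹ * u := by
    rw [hu]
    group
  rw [e']
  exact mul_mem_sup (inv_mem hh) huN

theorem card_bound {e : ℕ} {P₁ W V A : Subgroup X} (hWE : EA e W) (hWP : W ≤ P₁) (hA : A ∈ AA e P₁) (hVW : V ≤ W) :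
    Nat.card V * Nat.card ↥(A ⊓ centralizer (W : Set X)) ≤ Nat.card A * Nat.card ↥(V ⊓ centralizer (A : Set X)) := by
  set D := A ⊓ centralizer (W : Set X) with hD
  have hcomm : ∀ w ∈ W, ∀ d ∈ D, w * d = d * w := fun w hw d hd => mem_centralizer_iff.mp hd.2 w hw
  have hE : EA e (W ⊔ D) := hWE.sup (hA.2.1.mono inf_le_left) hcomm
  have hle : W ⊔ D ≤ P₁ := sup_le hWP (inf_le_left.trans hA.1)
  have h1 := hA.2.2 _ hle hE
  have h2 := card_sup_mul_inf (le_normalizer_of_commute hcomm)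
  have h3 : D ⊓ W = A ⊓ W := by
    apply le_antisymm (inf_le_inf_right _ inf_le_left)
    rintro x ⟨hxA, hxW⟩
    refine ⟨⟨hxA, mem_centralizer_iff.mpr fun w hw => hWE.1 w hw x hxW⟩, hxW⟩
  rw [h3] at h2
  have h4 : Nat.card W * Nat.card D ≤ Nat.card A * Nat.card ↥(A ⊓ W) := by
    rw [← h2]
    exact Nat.mul_le_mul_right _ h1
  have hne : A.relIndex W ≠ 0 := Subgroup.index_ne_zero_of_finite
  have hr : A.relIndex V ≤ A.relIndex W := Subgroup.relIndex_le_of_le_right hVW hne
  have h5 : A.relIndex W * Nat.card ↥(A ⊓ W) = Nat.card W := by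
    rw [← Subgroup.inf_relIndex_right A W]
    exact card_relIndex inf_le_right
  have h6 : A.relIndex V * Nat.card ↥(A ⊓ V) = Nat.card V := by
    rw [← Subgroup.inf_relIndex_right A V]
    exact card_relIndex inf_le_right
  have hpos : 0 < Nat.card ↥(A ⊓ W) := Nat.card_pos
  have h7 : A.relIndex W * Nat.card D ≤ Nat.card A := by
    apply Nat.le_of_mul_le_mul_right _ hpos
    calc A.relIndex W * Nat.card D * Nat.card ↥(A ⊓ W) = (A.relIndex W * Nat.card ↥(A ⊓ W)) * Nat.card D := by ring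
      _ = Nat.card W * Nat.card D := by rw [h5]
      _ ≤ _ := h4
  have h8 : Nat.card ↥(A ⊓ V) ≤ Nat.card ↥(V ⊓ centralizer (A : Set X)) := by
    apply Nat.le_of_dvd Nat.card_pos (Subgroup.card_dvd_of_le _)
    rintro x ⟨hxA, hxV⟩
    exact ⟨hxV, mem_centralizer_iff.mpr fun a ha => hA.2.1.1 a ha x hxA⟩
  calc Nat.card V * Nat.card D = A.relIndex V * Nat.card ↥(A ⊓ V) * Nat.card D := by rw [h6]
    _ ≤ A.relIndex W * Nat.card ↥(A ⊓ V) * Nat.card D := by
        apply Nat.mul_le_mul_right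
        exact Nat.mul_le_mul_right _ hr
    _ = Nat.card ↥(A ⊓ V) * (A.relIndex W * Nat.card D) := by ring
    _ ≤ Nat.card ↥(A ⊓ V) * Nat.card A := Nat.mul_le_mul_left _ h7
    _ ≤ Nat.card A * Nat.card ↥(V ⊓ centralizer (A : Set X)) := by
        rw [mul_comm]
        exact Nat.mul_le_mul_left _ h8

variable {V : Subgroup X} [hVn : V.Normal] {M : Type u} [AddCommGroup M] [Module (ZMod 2) M] [Finite M]
variable {ρ : X ⧸ centralizer (V : Set X) →* Module.End (ZMod 2) M}

theorem bo_map {e : ℕ} {W P₁ A : Subgroup X} (hsep : IsPSolvable 2 X)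
    (hO : pCore 2 (X ⧸ centralizer (V : Set X)) = ⊥) (R : QReal V ρ) (hinj : Function.Injective ρ)
    (hCV : centralizer (V : Set X) = centralizer (W : Set X)) (hWE : EA e W) (hWP : W ≤ P₁) (hP₁ : IsPGroup 2 P₁)
    (hA : A ∈ AA e P₁) (hVW : V ≤ W) : BO ρ (A.map (piC V)) := by
  have hA2 : IsPGroup 2 A := hP₁.to_le hA.1
  have hAbar2 : IsPGroup 2 (A.map (piC V)) := hA2.map _
  have hcbar : ∀ a ∈ A.map (piC V), ∀ b ∈ A.map (piC V), a * b = b * a := by
    rintro _ ⟨a, ha, rfl⟩ _ ⟨b, hb, rfl⟩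
    rw [← map_mul, ← map_mul, hA.2.1.1 a ha b hb]
  haveI : (pPrimeCore 2 (X ⧸ centralizer (V : Set X))).Normal := pPrimeCore_normal 2 _
  have hodd : Odd (Nat.card (pPrimeCore 2 (X ⧸ centralizer (V : Set X)))) :=
    Nat.coprime_two_right.mp (pPrimeCore_coprime 2 _)
  have hC := quot_core hsep V hO
  refine bo_of_eq hinj hodd hC hcbar hAbar2 ?_
  have hub := (bound_rep hinj hodd hC hcbar hAbar2).1
  apply le_antisymm hub
  have h1 := card_bound hWE hWP hA hVW
  have h2 := card_map_mul_inf (piC V) A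
  have h2' : Nat.card ↥(A ⊓ centralizer (W : Set X)) = Nat.card ↥(A ⊓ (piC V).ker) := by
    rw [ker_piC, ← hCV]
  rw [← h2'] at h2
  have h3 := R.card_Fx A
  have h4 := R.toReal.card_M
  rw [h4, h3]
  have hpos : 0 < Nat.card ↥(A ⊓ centralizer (W : Set X)) := Nat.card_pos
  apply Nat.le_of_mul_le_mul_right _ hpos
  calc Nat.card V * Nat.card ↥(A ⊓ centralizer (W : Set X)) ≤ Nat.card A * Nat.card ↥(V ⊓ centralizer (A : Set X)) := h1
    _ = Nat.card (A.map (piC V)) * Nat.card ↥(A ⊓ centralizer (W : Set X)) * Nat.card ↥(V ⊓ centralizer (A : Set X)) := by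
        rw [h2]
    _ = _ := by ring

theorem gen_top {e : ℕ} {P : Subgroup X}
    (hBO : ∀ g : X, ∀ A ∈ AA e P, BO ρ ((A.map (MulAut.conj g).toMonoidHom).map (piC V))) :
    ⨆ A : {A : Subgroup ↥((normalClosure (JJ e P : Set X)).map (piC V)) //
        BO (ρ.comp ((normalClosure (JJ e P : Set X)).map (piC V)).subtype) A},
      (A : Subgroup ↥((normalClosure (JJ e P : Set X)).map (piC V))) = ⊤ := by
  set J := JJ e P with hJ
  set Y := normalClosure (J : Set X) with hY
  haveI hYn : Y.Normal := normalClosure_normal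
  have hJY : J ≤ Y := subset_normalClosure
  set Yb := Y.map (piC V) with hYb
  set T := ⨆ A : {A : Subgroup ↥Yb // BO (ρ.comp Yb.subtype) A}, (A : Subgroup ↥Yb) with hT
  have hmain : ∀ g : X, ∀ j ∈ J, piC V (g * j * g⁻¹) ∈ T.map Yb.subtype := by
    intro g
    have hle : J ≤ (T.map Yb.subtype).comap ((piC V).comp (MulAut.conj g).toMonoidHom) := by
      apply sSup_le
      intro A hA a ha
      have hAJ : A ≤ J := le_JJ hA
      have hA₁ : (A.map (MulAut.conj g).toMonoidHom).map (piC V) ≤ Yb := by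
        rintro _ ⟨_, ⟨x, hx, rfl⟩, rfl⟩
        exact ⟨_, hYn.conj_mem x (hJY (hAJ hx)) g, rfl⟩
      have hbo := (hBO g A hA).subgroupOf hA₁
      have h2 : ((A.map (MulAut.conj g).toMonoidHom).map (piC V)).subgroupOf Yb ≤ T :=
        le_iSup (fun A : {A : Subgroup ↥Yb // BO (ρ.comp Yb.subtype) A} => (A : Subgroup ↥Yb)) ⟨_, hbo⟩
      have hmem : piC V (g * a * g⁻¹) ∈ (A.map (MulAut.conj g).toMonoidHom).map (piC V) := ⟨_, ⟨a, ha, rfl⟩, rfl⟩
      exact ⟨⟨_, hA₁ hmem⟩, h2 (Subgroup.mem_subgroupOf.mpr hmem), rfl⟩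
    intro j hj
    exact hle hj
  have hYle : Y ≤ (T.map Yb.subtype).comap (piC V) := by
    show Subgroup.closure _ ≤ _
    rw [Subgroup.closure_le]
    intro x hx
    rw [Group.mem_conjugatesOfSet_iff] at hx
    obtain ⟨j, hj, hc⟩ := hx
    obtain ⟨g, rfl⟩ := isConj_iff.mp hc
    exact hmain g j hj
  rw [eq_top_iff]
  rintro ⟨x, hx⟩ -
  obtain ⟨y, hy, rfl⟩ := hx
  obtain ⟨z, hz, e'⟩ := hYle hy
  have e2 : z = ⟨piC V y, y, hy, rfl⟩ := Subtype.ext e'
  rw [← e2]
  exact hz

theorem centralizes_of_odd {W : Subgroup X} [hWn : W.Normal] (hcW : ∀ a ∈ W, ∀ b ∈ W, a * b = b * a)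
    {y : X} (hyV : y ∈ centralizer ((om1 W hcW : Subgroup X) : Set X)) {q : ℕ} (hq : Odd q) (hy : y ^ q = 1) :
    ∀ (k : ℕ) (w : X), w ∈ W → w ^ (2 ^ k) = 1 → y * w * y⁻¹ = w := by
  intro k
  induction k with
  | zero =>
    intro w _ h
    rw [pow_zero, pow_one] at h
    rw [h]
    group
  | succ k ih =>
    intro w hw h
    have h2 : y * w ^ 2 * y⁻¹ = w ^ 2 := ih (w ^ 2) (pow_mem hw 2) (by
      rw [← pow_mul, ← pow_succ']
      exact h)
    set w' := y * w * y⁻¹ with hw'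
    have hw'W : w' ∈ W := hWn.conj_mem w hw y
    have hw'2 : w' ^ 2 = w ^ 2 := by
      rw [hw', conj_pow, h2]
    set u := w' * w⁻¹ with hu
    have huW : u ∈ W := mul_mem hw'W (inv_mem hw)
    have hcomm : Commute w' (w⁻¹) := hcW _ hw'W _ (inv_mem hw)
    have hu2 : u ^ 2 = 1 := by
      rw [hu, hcomm.mul_pow, hw'2, inv_pow, mul_inv_cancel]
    have huV : u ∈ om1 W hcW := ⟨huW, hu2⟩
    have hyu : y * u * y⁻¹ = u := by
      have h3 := mem_centralizer_iff.mp hyV u huV
      rw [← h3]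
      group
    have hyw : y * w * y⁻¹ = u * w := by
      show w' = u * w
      rw [hu, inv_mul_cancel_right]
    have hpow : ∀ n : ℕ, y ^ n * w * (y ^ n)⁻¹ = u ^ n * w := by
      intro n
      induction n with
      | zero => simp
      | succ n ihn =>
        have h3 : y * u ^ n * y⁻¹ = u ^ n := by
          rw [← conj_pow, hyu]
        calc y ^ (n + 1) * w * (y ^ (n + 1))⁻¹ = y * (y ^ n * w * (y ^ n)⁻¹) * y⁻¹ := by
              rw [pow_succ']
              group
          _ = y * (u ^ n * w) * y⁻¹ := by rw [ihn]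
          _ = (y * u ^ n * y⁻¹) * (y * w * y⁻¹) := by group
          _ = u ^ n * (u * w) := by rw [h3, hyw]
          _ = u ^ (n + 1) * w := by
              rw [pow_succ]
              group
    have h4 := hpow q
    rw [hy] at h4
    have h5 : u ^ q = 1 := by
      have h6 : (1 : X) * w * (1 : X)⁻¹ = w := by group
      rw [h6] at h4
      exact (mul_eq_right.mp h4.symm)
    obtain ⟨m, hm⟩ := hq
    have hu1 : u = 1 := by
      rw [hm, pow_succ, pow_mul, hu2, one_pow, one_mul] at h5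
      exact h5
    rw [hu, mul_inv_eq_one] at hu1
    exact hu1

theorem centralizer_om1_le {W : Subgroup X} [hWn : W.Normal] (hcW : ∀ a ∈ W, ∀ b ∈ W, a * b = b * a)
    (hW2 : IsPGroup 2 W) (hO : pCore 2 (X ⧸ centralizer (W : Set X)) = ⊥) :
    centralizer ((om1 W hcW : Subgroup X) : Set X) ≤ centralizer (W : Set X) := by
  haveI hVn' : (om1 W hcW).Normal := om1_normal hcW
  set K := centralizer ((om1 W hcW : Subgroup X) : Set X) with hK
  set π := QuotientGroup.mk' (centralizer (W : Set X)) with hπ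
  haveI : (K.map π).Normal := Subgroup.Normal.map inferInstance _ (QuotientGroup.mk'_surjective _)
  have hp : IsPGroup 2 (K.map π) := by
    rintro ⟨_, x, hx, rfl⟩
    obtain ⟨b, q, hq, hn⟩ := Nat.exists_eq_two_pow_mul_odd (Nat.card_pos (α := X)).ne'
    refine ⟨b, Subtype.ext ?_⟩
    show π x ^ 2 ^ b = 1
    rw [← map_pow]
    have hy : (x ^ 2 ^ b) ^ q = 1 := by
      rw [← pow_mul, ← hn]
      exact pow_card_eq_one'
    have hyK : x ^ 2 ^ b ∈ K := pow_mem hx _
    have hmem : x ^ 2 ^ b ∈ centralizer (W : Set X) := by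
      rw [mem_centralizer_iff]
      intro w hw
      obtain ⟨k, hk⟩ := hW2 ⟨w, hw⟩
      have h1 := centralizes_of_odd hcW hyK hq hy k w hw (congrArg Subtype.val hk)
      calc w * x ^ 2 ^ b = (x ^ 2 ^ b * w * (x ^ 2 ^ b)⁻¹) * x ^ 2 ^ b := by rw [h1]
        _ = x ^ 2 ^ b * w := by group
    have : π (x ^ 2 ^ b) = 1 := by
      rw [← MonoidHom.mem_ker, hπ, QuotientGroup.ker_mk']
      exact hmem
    exact this
  have h1 : K.map π ≤ pCore 2 (X ⧸ centralizer (W : Set X)) := le_pCore inferInstance hp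
  rw [hO] at h1
  intro x hx
  have h2 : π x = 1 := Subgroup.mem_bot.mp (h1 ⟨x, hx, rfl⟩)
  rw [← MonoidHom.mem_ker, hπ, QuotientGroup.ker_mk'] at h2
  exact h2

theorem pCore_quot_bot (T : Sylow 2 X) (K : Subgroup X) [hK : K.Normal]
    (hKC : K = (centralizer (((T : Subgroup X) ⊓ centralizer ((T : Subgroup X) : Set X) : Subgroup X) : Set X)).normalCore) :
    pCore 2 (X ⧸ K) = ⊥ := by
  set Z := ((T : Subgroup X) ⊓ centralizer ((T : Subgroup X) : Set X) : Subgroup X) with hZ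
  have hKZ : K ≤ centralizer (Z : Set X) := hKC.le.trans (normalCore_le _)
  set D := (pCore 2 (X ⧸ K)).comap (QuotientGroup.mk' K) with hD
  haveI hDn : D.Normal := Subgroup.Normal.comap inferInstance _
  have hDZ : D ≤ centralizer (Z : Set X) := by
    intro x hx
    have hf : Function.Surjective (QuotientGroup.mk' K) := QuotientGroup.mk'_surjective K
    have h1 : QuotientGroup.mk' K x ∈ ((Sylow.mapSurjective hf T : Sylow 2 (X ⧸ K)) : Subgroup (X ⧸ K)) :=
      pCore_le_sylow _ hx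
    rw [Sylow.coe_mapSurjective] at h1
    obtain ⟨t, ht, e⟩ := h1
    have h2 : t⁻¹ * x ∈ K := QuotientGroup.eq.mp e
    have h3 : t ∈ centralizer (Z : Set X) := by
      rw [mem_centralizer_iff]
      intro z hz
      exact (mem_centralizer_iff.mp hz.2 t ht).symm
    have e2 : x = t * (t⁻¹ * x) := by group
    rw [e2]
    exact mul_mem h3 (hKZ h2)
  have hDK : D ≤ K := (normal_le_normalCore.mpr hDZ).trans hKC.ge
  rw [eq_bot_iff]
  intro x hx
  obtain ⟨x, rfl⟩ := QuotientGroup.mk_surjective x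
  rw [Subgroup.mem_bot, QuotientGroup.eq_one_iff]
  exact hDK hx

end X

end Cfsg.Agent.Lib.OffBound
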